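import Mathlib

set_option autoImplicit false
universe u v w w'
open TensorProduct

namespace Groth.Agent.Lib.Helper5.HomAff

section
variable (R : Type u) [CommRing R] (A : Type v) [AddCommGroup A] [Module R A] [Module.Free R A]

/-- coordinates of `A ⊗ M` for a free module `A`. -/
noncomputable def coordEquiv (M : Type w) [AddCommGroup M] [Module R M] :
    A ⊗[R] M ≃ₗ[R] (Module.Free.ChooseBasisIndex R A →₀ M) :=
  (TensorProduct.congr (Module.Free.chooseBasis R A).repr (LinearEquiv.refl R M)) ≪≫ₗ
    TensorProduct.finsuppScalarLeft R M _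

theorem coordEquiv_tmul (M : Type w) [AddCommGroup M] [Module R M] (a : A) (m : M)
    (c : Module.Free.ChooseBasisIndex R A) :
    coordEquiv R A M (a ⊗ₜ[R] m) c = (Module.Free.chooseBasis R A).repr a c • m := by
  simp [coordEquiv]

theorem coordEquiv_natural {M : Type w} {M' : Type w'} [AddCommGroup M] [Module R M] [AddCommGroup M']
    [Module R M'] (g : M →ₗ[R] M') (x : A ⊗[R] M) (c : Module.Free.ChooseBasisIndex R A) :
    coordEquiv R A M' (LinearMap.lTensor A g x) c = g (coordEquiv R A M x c) := by
  induction x using TensorProduct.induction_on with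
  | zero => simp
  | tmul a m =>
    rw [LinearMap.lTensor_tmul, coordEquiv_tmul, coordEquiv_tmul, map_smul]
  | add x y hx hy =>
    simp only [map_add, Finsupp.add_apply, hx, hy]

/-- tensoring with a free module commutes with arbitrary products, injectively. -/
theorem lTensor_pi_injective {ι : Type*} (M : ι → Type w) [∀ i, AddCommGroup (M i)]
    [∀ i, Module R (M i)] (x : A ⊗[R] (Π i, M i))
    (hx : ∀ i, LinearMap.lTensor A (LinearMap.proj (R := R) (φ := M) i) x = 0) : x = 0 := by
  apply (coordEquiv R A (Π i, M i)).injective
  rw [map_zero]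
  ext c i
  have h := coordEquiv_natural R A (LinearMap.proj (R := R) (φ := M) i) x c
  rw [hx i] at h
  simp only [map_zero, Finsupp.zero_apply] at h
  simpa using h.symm

end

end Groth.Agent.Lib.Helper5.HomAff
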