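import Mathlib
import Groth.Agent.Lib.Helper5.HomAff.FreePi

set_option autoImplicit false
universe u
open CategoryTheory CategoryTheory.Limits AlgebraicGeometry TensorProduct TopologicalSpace

namespace Groth.Agent.Lib.Helper5.HomAff

/-- the comparison map `A ⊗ ∏ N_i → ∏ A ⊗ N_i`. -/
noncomputable def piComp (R A : Type u) [CommRing R] [CommRing A] [Algebra R A] {ι : Type*}
    (N : ι → Type u) [∀ i, CommRing (N i)] [∀ i, Algebra R (N i)] :
    (A ⊗[R] (Π i, N i)) →+* Π i, A ⊗[R] N i :=
  RingHom.pi fun i => (Algebra.TensorProduct.map (AlgHom.id R A) (Pi.evalAlgHom R N i)).toRingHom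

theorem piComp_tmul (R A : Type u) [CommRing R] [CommRing A] [Algebra R A] {ι : Type*}
    (N : ι → Type u) [∀ i, CommRing (N i)] [∀ i, Algebra R (N i)] (a : A) (x : Π i, N i) (i : ι) :
    piComp R A N (a ⊗ₜ[R] x) i = a ⊗ₜ[R] x i := by
  change Algebra.TensorProduct.map (AlgHom.id R A) (Pi.evalAlgHom R N i) (a ⊗ₜ[R] x) = _
  rw [Algebra.TensorProduct.map_tmul]
  rfl

theorem piComp_eq_lTensor (R A : Type u) [CommRing R] [CommRing A] [Algebra R A] {ι : Type*}
    (N : ι → Type u) [∀ i, CommRing (N i)] [∀ i, Algebra R (N i)] (x : A ⊗[R] (Π i, N i)) (i : ι) :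
    piComp R A N x i = LinearMap.lTensor A (LinearMap.proj (R := R) (φ := N) i) x := by
  induction x using TensorProduct.induction_on with
  | zero => simp
  | tmul a y => rw [piComp_tmul, LinearMap.lTensor_tmul]; rfl
  | add x y hx hy => rw [map_add, map_add, Pi.add_apply, hx, hy]

theorem piComp_injective (R A : Type u) [CommRing R] [CommRing A] [Algebra R A] [Module.Free R A]
    {ι : Type*} (N : ι → Type u) [∀ i, CommRing (N i)] [∀ i, Algebra R (N i)] :
    Function.Injective (piComp R A N) := by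
  rw [injective_iff_map_eq_zero]
  intro x hx
  apply lTensor_pi_injective R A N x
  intro i
  rw [← piComp_eq_lTensor, hx]
  rfl

end Groth.Agent.Lib.Helper5.HomAff
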