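import Mathlib
import Groth.Agent.Lib.Helper5.HomAff.FreeSec

set_option autoImplicit false
universe u
open CategoryTheory CategoryTheory.Limits AlgebraicGeometry TensorProduct TopologicalSpace

namespace Groth.Agent.Lib.Helper5.HomAff

variable {X Y S T : Scheme.{u}} {f : T ⟶ S} {g : Y ⟶ X} {iX : X ⟶ S} {iY : Y ⟶ T}
  (H : IsPullback g iY iX f)
  {US : S.Opens} {UT : T.Opens}
  {UX : X.Opens} (hUST : UT ≤ f ⁻¹ᵁ US) (hUSX : UX ≤ iX ⁻¹ᵁ US)
  {UY : Y.Opens} (hUY : UY = g ⁻¹ᵁ UX ⊓ iY ⁻¹ᵁ UT)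

set_option backward.isDefEq.respectTransparency false in
/-- infinite-cover version of `mono_pushoutSection_of_iSup_eq`, for a free algebra. -/
theorem mono_pushoutSection_of_iSup_eq_of_free {ι : Type*} (VX : ι → X.Opens) (hVU : iSup VX = UX)
    (hV : ∀ i, Mono (pushoutSection H hUST (show VX i ≤ _ by aesop) rfl))
    (hT : letI := (f.appLE US UT hUST).hom.toAlgebra; Module.Free Γ(S, US) Γ(T, UT)) :
    Mono (pushoutSection H hUST hUSX hUY) := by
  have (i : _) : VX i ≤ iX ⁻¹ᵁ US := by clear hV; aesop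
  classical
  algebraize [(iX.appLE US UX hUSX).hom, (f.appLE US UT hUST).hom]
  haveI : Module.Free Γ(S, US) Γ(T, UT) := hT
  let (i : _) := (iX.appLE US (VX i) (by aesop)).hom.toAlgebra
  let ψY : Γ(Y, UY) →+* Π i, Γ(Y, g ⁻¹ᵁ VX i ⊓ iY ⁻¹ᵁ UT) := RingHom.pi fun i ↦
      (Y.presheaf.map (homOfLE (by subst hUY hVU; gcongr; exact le_iSup _ _)).op).hom
  let ψ : Γ(X, UX) →ₐ[Γ(S, US)] Π i, Γ(X, VX i) := AlgHom.pi fun i ↦
    ⟨(X.presheaf.map (homOfLE (hVU ▸ le_iSup VX i)).op).hom, fun r ↦ by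
      dsimp [RingHom.algebraMap_toAlgebra]
      simp only [← CommRingCat.comp_apply, Scheme.Hom.appLE_map]⟩
  have hψ : Function.Injective ψ := by
    intro s t est
    apply X.IsSheaf.section_ext fun x hx ↦ ?_
    simp only [← hVU, Opens.mem_iSup] at hx
    obtain ⟨i, hxi⟩ := hx
    exact ⟨_, _, hxi, congr($est i)⟩
  have hψ' : Function.Injective (Algebra.TensorProduct.map (AlgHom.id Γ(T, UT) Γ(T, UT)) ψ) :=
    Module.Flat.lTensor_preserves_injective_linearMap ψ.toLinearMap hψ
  simp_rw [@ConcreteCategory.mono_iff_injective_of_preservesPullback] at hV ⊢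
  let φ : (Γ(T, UT) ⊗[Γ(S, US)] Π i, Γ(X, VX i)) →+* Π i, Γ(Y, g ⁻¹ᵁ VX i ⊓ iY ⁻¹ᵁ UT) :=
    (RingHom.pi fun i ↦ (pushoutSection H hUST (show VX i ≤ _ by aesop) rfl).hom.comp
      ((CommRingCat.isPushout_tensorProduct _ _ _).flip.isoPushout.hom.hom.comp
      (by exact Pi.evalRingHom _ _))).comp (piComp Γ(S, US) Γ(T, UT) (fun i => Γ(X, VX i)))
  have hφ : Function.Injective φ := by
    dsimp [φ]
    refine .comp ?_ (piComp_injective Γ(S, US) Γ(T, UT) (fun i => Γ(X, VX i)))
    exact .piMap fun i ↦ (hV _).comp <| CommRingCat.isPushout_tensorProduct _ _ _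
      |>.flip.isoPushout.commRingCatIsoToRingEquiv.injective
  let e : pushout (iX.appLE US UX hUSX) (f.appLE US UT hUST) ≅
      .of (Γ(T, UT) ⊗[Γ(S, US)] Γ(X, UX)) :=
    (CommRingCat.isPushout_tensorProduct _ _ _).flip.isoPushout.symm
  suffices (ψY.comp (pushoutSection H hUST hUSX hUY).hom).comp e.inv.hom = φ.comp
      (Algebra.TensorProduct.map (AlgHom.id Γ(T, UT) Γ(T, UT)) ψ).toRingHom by
    refine .of_comp (f := ψY) ?_
    convert (hφ.comp hψ').comp e.commRingCatIsoToRingEquiv.injective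
    ext1 x; simpa using! congr($this (e.hom x))
  ext1
  · have H₁ : e.inv.hom.comp Algebra.TensorProduct.includeLeftRingHom =
        (pushout.inr (C := CommRingCat) _ _).hom :=
      congr($((CommRingCat.isPushout_tensorProduct _ _ _).flip.inr_isoPushout_hom).hom)
    have H₂ (x j) : φ (x ⊗ₜ[↑Γ(S, US)] 1) j = pushoutSection H hUST (UX := VX j) (by simp_all) rfl
        (pushout.inr (C := CommRingCat) _ _ x) := congr(pushoutSection H hUST (UX := VX j) _ rfl
        ($((CommRingCat.isPushout_tensorProduct ↑Γ(S, US)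
          ↑Γ(T, UT) ↑Γ(X, VX j)).flip.inr_isoPushout_hom) x))
    simp only [RingHom.comp_assoc, H₁]
    ext x j
    simp [ψY, H₂, ← CategoryTheory.comp_apply, pushoutSection]
  · have H₁ : e.inv.hom.comp Algebra.TensorProduct.includeRight.toRingHom =
        (pushout.inl (C := CommRingCat) _ _).hom :=
      congr($((CommRingCat.isPushout_tensorProduct _ _ _).flip.inl_isoPushout_hom).hom)
    have H₂ (x j) : φ (1 ⊗ₜ[↑Γ(S, US)] x) j = pushoutSection H hUST (UX := VX j) (by simp_all) rfl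
        (pushout.inl (C := CommRingCat) _ _ (x j)) := congr(pushoutSection H hUST (UX := VX j) _ rfl
        ($((CommRingCat.isPushout_tensorProduct ↑Γ(S, US)
          ↑Γ(T, UT) ↑Γ(X, VX j)).flip.inl_isoPushout_hom) (x j)))
    simp only [RingHom.comp_assoc, H₁]
    ext x j
    simp [ψY, H₂, -CommRingCat.hom_comp, ← CategoryTheory.comp_apply, pushoutSection, ψ]


/-- injectivity of the section comparison map for an arbitrary open, over a free algebra. -/
theorem mono_pushoutSection_of_free (hUS : IsAffineOpen US) (hUT : IsAffineOpen UT)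
    (hT : letI := (f.appLE US UT hUST).hom.toAlgebra; Module.Free Γ(S, US) Γ(T, UT)) :
    Mono (pushoutSection H hUST hUSX hUY) := by
  refine mono_pushoutSection_of_iSup_eq_of_free H hUST hUSX hUY
    (ι := {V : X.affineOpens // V.1 ≤ UX}) (fun V => V.1.1) ?_ ?_ hT
  · apply le_antisymm (iSup_le fun V => V.2)
    intro x hx
    obtain ⟨V, hV, hxV, hVU⟩ := Opens.isBasis_iff_nbhd.mp X.isBasis_affineOpens hx
    exact Opens.mem_iSup.2 ⟨⟨⟨V, hV⟩, hVU⟩, hxV⟩
  · intro V
    have := isIso_pushoutSection_of_isAffineOpen H hUST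
      (show V.1.1 ≤ iX ⁻¹ᵁ US from V.2.trans hUSX) rfl hUS hUT V.1.2
    infer_instance

/-- bijectivity of the section comparison map for a compact open, over a free algebra
(no quasi-separatedness needed). -/
theorem isIso_pushoutSection_of_isCompact_of_free (hUS : IsAffineOpen US) (hUT : IsAffineOpen UT)
    (hUX : IsCompact (X := X) UX)
    (hT : letI := (f.appLE US UT hUST).hom.toAlgebra; Module.Free Γ(S, US) Γ(T, UT)) :
    IsIso (pushoutSection H hUST hUSX hUY) := by
  obtain ⟨I, hI, e⟩ := isCompact_iff_finite_and_eq_biUnion_affineOpens.mp hUX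
  have hIUX (i : I) : i.1 ≤ UX := by rw [e]; intro i; aesop
  have := hI.to_subtype
  have hflat : (f.appLE US UT hUST).hom.Flat := by
    letI := (f.appLE US UT hUST).hom.toAlgebra
    haveI : Module.Free Γ(S, US) Γ(T, UT) := hT
    change Module.Flat Γ(S, US) Γ(T, UT)
    infer_instance
  exact isIso_pushoutSection_of_iSup_eq H hUST hUSX hUY (fun i : I ↦ i)
    (by rwa [iSup_subtype, eq_comm])
    (fun i ↦ isIso_pushoutSection_of_isAffineOpen _ _ _ _ hUS hUT i.1.2)
    (fun i j ↦ mono_pushoutSection_of_free _ _ _ _ hUS hUT hT) hflat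

end Groth.Agent.Lib.Helper5.HomAff
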