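import Mathlib
import Groth.Agent.Lib.Helper5.HomAff.FreeMono

set_option autoImplicit false
universe u
open CategoryTheory CategoryTheory.Limits AlgebraicGeometry TensorProduct TopologicalSpace

namespace Groth.Agent.Lib.Helper5.HomAff

theorem appLE_top_top {X Y : Scheme.{u}} (f : X ⟶ Y) (e : (⊤ : X.Opens) ≤ f ⁻¹ᵁ ⊤) :
    f.appLE ⊤ ⊤ e = f.appTop := by
  simp [Scheme.Hom.appLE, Scheme.Hom.appTop]

section
variable {K Xl Sl Xa : Scheme.{u}} (x : Xl ⟶ K) (s : Sl ⟶ K) (c : Xl ⟶ Xa) (ga : Xa ⟶ K)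
  (hc : c ≫ ga = x)

/-- the comparison morphism `X ×_K S ⟶ X_aff ×_K S`. -/
noncomputable def gam : pullback x s ⟶ pullback ga s :=
  pullback.map x s ga s c (𝟙 _) (𝟙 _) (by rw [Category.comp_id, hc]) (by simp)

theorem gam_fst : gam x s c ga hc ≫ pullback.fst ga s = pullback.fst x s ≫ c :=
  pullback.lift_fst _ _ _

theorem gam_snd : gam x s c ga hc ≫ pullback.snd ga s = pullback.snd x s :=
  (pullback.lift_snd _ _ _).trans (Category.comp_id _)

theorem isIso_gam_appTop [IsAffine K] [IsAffine Sl] [IsAffine Xa] [CompactSpace Xl]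
    [IsIso c.appTop]
    (hfree : letI := (s.appLE ⊤ ⊤ le_top).hom.toAlgebra; Module.Free Γ(K, ⊤) Γ(Sl, ⊤)) :
    IsIso (gam x s c ga hc).appTop := by
  have H1 : IsPullback (pullback.fst x s) (pullback.snd x s) x s := IsPullback.of_hasPullback x s
  have H2 : IsPullback (pullback.fst ga s) (pullback.snd ga s) ga s :=
    IsPullback.of_hasPullback ga s
  let P1 := pushoutSection H1 (US := ⊤) (UT := ⊤) (UX := ⊤) (UY := ⊤) le_top le_top (by simp)
  let P2 := pushoutSection H2 (US := ⊤) (UT := ⊤) (UX := ⊤) (UY := ⊤) le_top le_top (by simp)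
  haveI h1 : IsIso P1 := isIso_pushoutSection_of_isCompact_of_free H1 le_top le_top (by simp)
    (isAffineOpen_top K) (isAffineOpen_top Sl) (by exact isCompact_univ) hfree
  haveI h2 : IsIso P2 := isIso_pushoutSection_of_isAffineOpen H2 le_top le_top (by simp)
    (isAffineOpen_top K) (isAffineOpen_top Sl) (isAffineOpen_top Xa)
  let m : pushout (ga.appLE ⊤ ⊤ le_top) (s.appLE ⊤ ⊤ le_top) ⟶
      pushout (x.appLE ⊤ ⊤ le_top) (s.appLE ⊤ ⊤ le_top) :=
    pushout.map _ _ _ _ c.appTop (𝟙 _) (𝟙 _) (by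
      rw [Category.id_comp]
      subst hc
      simp [Scheme.Hom.appLE]) (by simp)
  haveI : IsIso m := by
    dsimp only [m]
    infer_instance
  have key : P2 ≫ (gam x s c ga hc).appTop = m ≫ P1 := by
    apply pushout.hom_ext
    · simp only [P1, P2, m, pushoutSection, pushout.inl_desc_assoc,
        pushout.inl_desc, Category.assoc]
      rw [appLE_top_top, appLE_top_top, ← Scheme.Hom.comp_appTop, ← Scheme.Hom.comp_appTop,
        gam_fst]
    · simp only [P1, P2, m, pushoutSection, pushout.inr_desc_assoc,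
        pushout.inr_desc, Category.assoc]
      rw [appLE_top_top, appLE_top_top, ← Scheme.Hom.comp_appTop, Category.id_comp, gam_snd]
  have : (gam x s c ga hc).appTop = inv P2 ≫ m ≫ P1 := by
    rw [← key, IsIso.inv_hom_id_assoc]
  rw [this]
  infer_instance

end

end Groth.Agent.Lib.Helper5.HomAff
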