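import Groth.Agent.Lib.Helper5.HomAff.WeilFT2
import Groth.Agent.Lib.Helper5.HomAff.Gamma

set_option autoImplicit false
universe u
open CategoryTheory CategoryTheory.Limits AlgebraicGeometry Opposite MonoidalCategory
  CartesianMonoidalCategory

namespace Groth.Agent.Lib.Helper5.HomAff

open Groth.Agent.Lib.Helper5.Weil (homOfΓ homOfΓ_appTop MorS Pmap Pmap_fst Pmap_snd act act_left
  act_comp chartObj chartHom MorS_ext)

/-- a morphism inducing an isomorphism on global sections induces bijections on morphisms to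
affine schemes. -/
theorem comp_bijective_of_isIso_appTop {P Q Y : Scheme.{u}} [IsAffine Y] (γ : P ⟶ Q)
    [IsIso γ.appTop] : Function.Bijective (fun b : Q ⟶ Y => γ ≫ b) := by
  constructor
  · intro b b' h
    apply ext_of_isAffine
    have h1 := congrArg Scheme.Hom.appTop h
    simp only [Scheme.Hom.comp_appTop] at h1
    exact (cancel_mono γ.appTop).1 h1
  · intro f
    refine ⟨homOfΓ (f.appTop ≫ inv γ.appTop), ?_⟩
    apply ext_of_isAffine
    simp only [Scheme.Hom.comp_appTop, homOfΓ_appTop, Category.assoc, IsIso.inv_hom_id,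
      Category.comp_id]

theorem free_of_isField {R M : Type*} [CommRing R] (h : IsField R) [AddCommGroup M] [Module R M] :
    Module.Free R M := by
  letI := h.toField
  exact Module.Free.of_divisionRing R M

section
variable {K : Scheme.{u}} [IsAffine K] (X Z : Over K) [IsAffine Z.left] {Xa : Scheme.{u}}
  [IsAffine Xa] (c : X.left ⟶ Xa) (ga : Xa ⟶ K) (hc : c ≫ ga = X.hom)

/-- the comparison morphism `X ×_K T ⟶ T ×_K X_aff`. -/
noncomputable def gamT (T : Over K) : pullback X.hom T.hom ⟶ pullback T.hom ga :=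
  pullback.lift (pullback.snd X.hom T.hom) (pullback.fst X.hom T.hom ≫ c)
    (by rw [Category.assoc, hc, pullback.condition])

theorem gamT_fst (T : Over K) :
    gamT X c ga hc T ≫ pullback.fst T.hom ga = pullback.snd X.hom T.hom :=
  pullback.lift_fst _ _ _

theorem gamT_snd (T : Over K) :
    gamT X c ga hc T ≫ pullback.snd T.hom ga = pullback.fst X.hom T.hom ≫ c :=
  pullback.lift_snd _ _ _

theorem gamT_eq (T : Over K) :
    gamT X c ga hc T = gam X.hom T.hom c ga hc ≫ (pullbackSymmetry ga T.hom).hom := by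
  apply pullback.hom_ext
  · rw [gamT_fst, Category.assoc, pullbackSymmetry_hom_comp_fst, gam_snd]
  · rw [gamT_snd, Category.assoc, pullbackSymmetry_hom_comp_snd, gam_fst]

/-- the map `Θ_T`. -/
noncomputable def Theta (T : Over K) (b : MorS ga Z.hom T) : X ⊗ T ⟶ Z :=
  Over.homMk (U := X ⊗ T) (V := Z) (gamT X c ga hc T ≫ b.left) (by
    change (gamT X c ga hc T ≫ b.left) ≫ Z.hom = pullback.fst X.hom T.hom ≫ X.hom
    rw [Category.assoc]
    have hb : (b.left : pullback T.hom ga ⟶ Z.left) ≫ Z.hom = pullback.snd T.hom ga ≫ ga :=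
      Over.w b
    rw [hb, ← Category.assoc, gamT_snd, Category.assoc, hc])

theorem Theta_left (T : Over K) (b : MorS ga Z.hom T) :
    (Theta X Z c ga hc T b).left = gamT X c ga hc T ≫ b.left := rfl

theorem whisker_gamT {T T' : Over K} (t : T' ⟶ T) :
    (X ◁ t).left ≫ gamT X c ga hc T = gamT X c ga hc T' ≫ Pmap ga t := by
  apply pullback.hom_ext
  · rw [Category.assoc, gamT_fst, Category.assoc, Pmap_fst, ← Category.assoc, gamT_fst]
    exact Over.whiskerLeft_left_snd t
  · rw [Category.assoc, gamT_snd, Category.assoc, Pmap_snd, gamT_snd, ← Category.assoc]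
    congr 1
    exact Over.whiskerLeft_left_fst t

theorem Theta_nat {T T' : Over K} (t : T' ⟶ T) (b : MorS ga Z.hom T) :
    (X ◁ t) ≫ Theta X Z c ga hc T b = Theta X Z c ga hc T' (act ga Z.hom t b) := by
  apply Over.OverMorphism.ext
  rw [Over.comp_left, Theta_left, Theta_left, act_left, ← Category.assoc, whisker_gamT,
    Category.assoc]


theorem isIso_gamT_appTop [CompactSpace X.left] [IsIso c.appTop] (T : Over K) [IsAffine T.left]
    (hK : IsField Γ(K, ⊤)) : IsIso (gamT X c ga hc T).appTop := by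
  haveI : IsIso (gam X.hom T.hom c ga hc).appTop :=
    isIso_gam_appTop X.hom T.hom c ga hc
      (by letI := (T.hom.appLE ⊤ ⊤ le_top).hom.toAlgebra; exact free_of_isField hK)
  haveI : IsIso (pullbackSymmetry ga T.hom).hom.appTop := by
    change IsIso (Scheme.Γ.map (pullbackSymmetry ga T.hom).hom.op)
    infer_instance
  rw [gamT_eq, Scheme.Hom.comp_appTop]
  infer_instance

theorem Theta_bijective_affine [CompactSpace X.left] [IsIso c.appTop] (T : Over K)
    [IsAffine T.left] (hK : IsField Γ(K, ⊤)) : Function.Bijective (Theta X Z c ga hc T) := by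
  haveI := isIso_gamT_appTop X c ga hc T hK
  have hZ := comp_bijective_of_isIso_appTop (Y := Z.left) (gamT X c ga hc T)
  have hKb := comp_bijective_of_isIso_appTop (Y := K) (gamT X c ga hc T)
  constructor
  · intro b b' h
    apply MorS_ext
    apply hZ.1
    exact congrArg (fun f => f.left) h
  · intro f
    obtain ⟨bl, hbl⟩ := hZ.2 f.left
    have hbl' : gamT X c ga hc T ≫ bl = f.left := hbl
    have hw : bl ≫ Z.hom = pullback.snd T.hom ga ≫ ga := by
      apply hKb.1
      change gamT X c ga hc T ≫ bl ≫ Z.hom = gamT X c ga hc T ≫ pullback.snd T.hom ga ≫ ga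
      rw [← Category.assoc, hbl', ← Category.assoc, gamT_snd, Category.assoc, hc]
      exact Over.w f
    refine ⟨Weil.mkMorS ga Z.hom T bl hw, ?_⟩
    apply Over.OverMorphism.ext
    exact hbl'

end

section Rep
variable {K : Scheme.{u}} [IsAffine K] (X Z : Over K) [IsAffine Z.left] {Xa : Scheme.{u}}
  [IsAffine Xa] (c : X.left ⟶ Xa) (ga : Xa ⟶ K) (hc : c ≫ ga = X.hom)
  {W : Over K} (r : (Flatn.morS ga Z.hom).RepresentableBy W)

/-- the composite map `Hom(T, W) → Hom(X ⊗ T, Z)`. -/
noncomputable def Psi (T : Over K) (t : T ⟶ W) : X ⊗ T ⟶ Z :=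
  Theta X Z c ga hc T (r.homEquiv t)

/-- the evaluation morphism. -/
noncomputable def evW : X ⊗ W ⟶ Z := Psi X Z c ga hc r W (𝟙 W)

theorem Psi_eq (T : Over K) (t : T ⟶ W) : Psi X Z c ga hc r T t = (X ◁ t) ≫ evW X Z c ga hc r := by
  rw [evW, Psi, Psi, Theta_nat]
  congr 1
  have := r.homEquiv_comp t (𝟙 W)
  rw [Category.comp_id] at this
  exact this

theorem Psi_comp {T T' : Over K} (s : T' ⟶ T) (t : T ⟶ W) :
    Psi X Z c ga hc r T' (s ≫ t) = (X ◁ s) ≫ Psi X Z c ga hc r T t := by
  rw [Psi_eq, Psi_eq, MonoidalCategory.whiskerLeft_comp, Category.assoc]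

variable [CompactSpace X.left] [IsIso c.appTop] (hK : IsField Γ(K, ⊤))
include hK

theorem Psi_bijective_affine (T : Over K) [IsAffine T.left] :
    Function.Bijective (Psi X Z c ga hc r T) :=
  (Theta_bijective_affine X Z c ga hc T hK).comp r.homEquiv.bijective

theorem Psi_injective (T : Over K) : Function.Injective (Psi X Z c ga hc r T) := by
  intro t t' h
  have h1 : ∀ i, chartHom T i ≫ t = chartHom T i ≫ t' := by
    intro i
    apply (Psi_bijective_affine X Z c ga hc r hK (chartObj T i)).1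
    rw [Psi_comp, Psi_comp, h]
  apply Over.OverMorphism.ext
  apply T.left.affineCover.hom_ext
  intro i
  exact congrArg (fun s => s.left) (h1 i)

omit hK in
theorem tensor_sep (T : Over K) (f f' : X ⊗ T ⟶ Z)
    (h : ∀ i, (X ◁ chartHom T i) ≫ f = (X ◁ chartHom T i) ≫ f') : f = f' := by
  apply Over.OverMorphism.ext
  apply (Scheme.Pullback.openCoverOfRight T.left.affineCover X.hom T.hom).hom_ext
  intro i
  have h2 := congrArg (fun s => s.left) (h i)
  simp only [Over.comp_left] at h2
  exact h2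

theorem Psi_surjective (T : Over K) : Function.Surjective (Psi X Z c ga hc r T) := by
  intro f
  let 𝒰 := T.left.affineCover
  choose ti hti using fun i => (Psi_bijective_affine X Z c ga hc r hK (chartObj T i)).2
    ((X ◁ chartHom T i) ≫ f)
  have hov : ∀ i j, pullback.fst (𝒰.f i) (𝒰.f j) ≫ ((ti i).left : 𝒰.X i ⟶ W.left)
      = pullback.snd (𝒰.f i) (𝒰.f j) ≫ ((ti j).left : 𝒰.X j ⟶ W.left) := by
    intro i j
    let V : Over K := Over.mk (pullback.fst (𝒰.f i) (𝒰.f j) ≫ 𝒰.f i ≫ T.hom)
    let p₁ : V ⟶ chartObj T i := Over.homMk (pullback.fst (𝒰.f i) (𝒰.f j)) rfl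
    let p₂ : V ⟶ chartObj T j := Over.homMk (pullback.snd (𝒰.f i) (𝒰.f j)) (by
      change pullback.snd (𝒰.f i) (𝒰.f j) ≫ 𝒰.f j ≫ T.hom
        = pullback.fst (𝒰.f i) (𝒰.f j) ≫ 𝒰.f i ≫ T.hom
      rw [← Category.assoc, ← pullback.condition, Category.assoc])
    have hp : p₁ ≫ chartHom T i = p₂ ≫ chartHom T j := by
      apply Over.OverMorphism.ext
      exact pullback.condition
    have h2 : p₁ ≫ ti i = p₂ ≫ ti j := by
      apply Psi_injective X Z c ga hc r hK V
      rw [Psi_comp, Psi_comp, hti i, hti j, ← Category.assoc, ← Category.assoc,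
        ← MonoidalCategory.whiskerLeft_comp, ← MonoidalCategory.whiskerLeft_comp, hp]
    exact congrArg (fun s => s.left) h2
  let tl : T.left ⟶ W.left := 𝒰.glueMorphisms (fun i => ((ti i).left : 𝒰.X i ⟶ W.left)) hov
  have htl : tl ≫ W.hom = T.hom := by
    apply 𝒰.hom_ext
    intro i
    rw [← Category.assoc, Scheme.Cover.ι_glueMorphisms]
    exact Over.w (ti i)
  let t : T ⟶ W := Over.homMk tl htl
  have ht : ∀ i, chartHom T i ≫ t = ti i := by
    intro i
    apply Over.OverMorphism.ext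
    exact 𝒰.ι_glueMorphisms _ hov i
  refine ⟨t, ?_⟩
  apply tensor_sep X Z T
  intro i
  rw [← Psi_comp, ht, hti]

theorem existsUnique_lift (T : Over K) (f : X ⊗ T ⟶ Z) :
    ∃! t : T ⟶ W, (X ◁ t) ≫ evW X Z c ga hc r = f := by
  obtain ⟨t, ht⟩ := Psi_surjective X Z c ga hc r hK T f
  refine ⟨t, ?_, ?_⟩
  · change (X ◁ t) ≫ evW X Z c ga hc r = f
    rw [← Psi_eq, ht]
  intro t' ht'
  change (X ◁ t') ≫ evW X Z c ga hc r = f at ht'
  apply Psi_injective X Z c ga hc r hK T
  rw [Psi_eq, Psi_eq, ht', ← Psi_eq, ht]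

end Rep

/-- the scheme of morphisms from a quasi-compact scheme with finite global functions to an affine
scheme, over the spectrum of a field. -/
theorem main {K : Scheme.{u}} [IsAffine K] (hK : IsField Γ(K, ⊤)) (X Z : Over K)
    [CompactSpace X.left] [IsAffine Z.left] (hfin : X.hom.appTop.hom.Finite) :
    ∃ (M : Over K) (_ : IsAffine M.left) (ev : X ⊗ M ⟶ Z),
      (∀ (S : Over K) (f : X ⊗ S ⟶ Z), ∃! g : S ⟶ M, (X ◁ g) ≫ ev = f) ∧
      (LocallyOfFiniteType Z.hom → LocallyOfFiniteType M.hom) := by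
  let Xa : Scheme.{u} := Spec Γ(X.left, ⊤)
  let c : X.left ⟶ Xa := X.left.toSpecΓ
  let ga : Xa ⟶ K := Spec.map X.hom.appTop ≫ K.isoSpec.inv
  have hc : c ≫ ga = X.hom := by
    change X.left.toSpecΓ ≫ Spec.map X.hom.appTop ≫ K.isoSpec.inv = X.hom
    rw [← Category.assoc, ← Scheme.toSpecΓ_naturality, Category.assoc]
    change X.hom ≫ K.isoSpec.hom ≫ K.isoSpec.inv = X.hom
    rw [Iso.hom_inv_id, Category.comp_id]
  haveI : IsIso c.appTop := by
    change IsIso (X.left.toSpecΓ).appTop
    rw [Scheme.toSpecΓ_appTop]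
    infer_instance
  haveI : IsFinite ga := by
    haveI : IsFinite (Spec.map X.hom.appTop) := (IsFinite.SpecMap_iff _).mpr hfin
    change IsFinite (Spec.map X.hom.appTop ≫ K.isoSpec.inv)
    infer_instance
  have hproj : letI := ga.appTop.hom.toAlgebra
      Module.Finite Γ(K, ⊤) Γ(Xa, ⊤) ∧ Module.Projective Γ(K, ⊤) Γ(Xa, ⊤) := by
    letI := ga.appTop.hom.toAlgebra
    refine ⟨ga.finite_appTop, ?_⟩
    haveI := free_of_isField hK (M := Γ(Xa, ⊤))
    infer_instance
  obtain ⟨W, hWaff, hWft, ⟨r⟩⟩ := representableP' ga Z.hom hproj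
  exact ⟨W, hWaff, evW X Z c ga hc r, fun S f => existsUnique_lift X Z c ga hc r hK S f, hWft⟩

end Groth.Agent.Lib.Helper5.HomAff
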