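import Mathlib
import Groth.Agent.Lib.Helper5.WeilP.Alg

set_option autoImplicit false
universe u
open TensorProduct

namespace Groth.Agent.Lib.Helper5.HomAff

open Groth.Agent.Lib.Helper5.WeilP

section Alg
variable {R : Type u} [CommRing R] {C : Type u} [CommRing C] [Algebra R C]
  {n : ℕ} (c : Fin n → C) (ℓ : Fin n → C →ₗ[R] R) (hc : ∀ x : C, ∑ k, ℓ k x • c k = x)
  (B : Type u) [CommRing B] [Algebra R B]

include hc in
theorem qW_X_eq_coord (β : B) (k : Fin n) :
    qW c ℓ B (MvPolynomial.X (β, k)) = coord ℓ (WB c ℓ B) k (uHom c ℓ hc B β) := by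
  rw [uHom_apply, coord_sum, qW_rel]

include hc in
/-- the Weil restriction algebra of a finitely generated algebra is finitely generated. -/
theorem WB_finiteType (hB : Algebra.FiniteType R B) : Algebra.FiniteType R (WB c ℓ B) := by
  obtain ⟨s, hs⟩ := hB.out
  classical
  -- the generators
  let G : Set (WB c ℓ B) := (fun p : B × Fin n => qW c ℓ B (MvPolynomial.X p)) '' ((s : Set B) ×ˢ Set.univ)
  have hGfin : G.Finite := (s.finite_toSet.prod Set.finite_univ).image _
  let W' : Subalgebra R (WB c ℓ B) := Algebra.adjoin R G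
  -- the subalgebra `W' ⊗ C` of `WB ⊗ C`
  let 𝒯 : Subalgebra R (WB c ℓ B ⊗[R] C) :=
    (Algebra.TensorProduct.map W'.val (AlgHom.id R C)).range
  have h𝒯 : ∀ t ∈ 𝒯, ∀ k, coord ℓ (WB c ℓ B) k t ∈ W' := by
    rintro _ ⟨x, rfl⟩ k
    change coord ℓ (WB c ℓ B) k (Algebra.TensorProduct.map W'.val (AlgHom.id R C) x) ∈ W'
    rw [coord_map ℓ W'.val x k]
    exact (coord ℓ W' k x).2
  -- `uHom` lands in `𝒯`
  have hu : ∀ β : B, uHom c ℓ hc B β ∈ 𝒯 := by
    have hle : (⊤ : Subalgebra R B) ≤ 𝒯.comap (uHom c ℓ hc B) := by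
      rw [← hs, Algebra.adjoin_le_iff]
      intro β hβ
      change uHom c ℓ hc B β ∈ 𝒯
      rw [uHom_apply]
      refine Subalgebra.sum_mem _ fun k _ => ?_
      refine ⟨(⟨qW c ℓ B (MvPolynomial.X (β, k)), Algebra.subset_adjoin
        ⟨(β, k), ⟨hβ, Set.mem_univ _⟩, rfl⟩⟩ : W') ⊗ₜ[R] c k, ?_⟩
      change Algebra.TensorProduct.map W'.val (AlgHom.id R C) _ = _
      rw [Algebra.TensorProduct.map_tmul]
      rfl
    intro β
    exact hle (Algebra.mem_top : β ∈ (⊤ : Subalgebra R B))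
  have hall : ∀ (β : B) (k : Fin n), qW c ℓ B (MvPolynomial.X (β, k)) ∈ W' := by
    intro β k
    rw [qW_X_eq_coord c ℓ hc B β k]
    exact h𝒯 _ (hu β) k
  have htop : W' = ⊤ := by
    rw [eq_top_iff]
    intro x _
    obtain ⟨p, rfl⟩ := Ideal.Quotient.mk_surjective x
    change qW c ℓ B p ∈ W'
    clear * - hall
    induction p using MvPolynomial.induction_on with
    | C r =>
      have : qW c ℓ B (MvPolynomial.C r) = algebraMap R _ r := by
        rw [← MvPolynomial.algebraMap_eq, AlgHom.commutes]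
      rw [this]
      exact Subalgebra.algebraMap_mem _ r
    | add p q hp hq => rw [map_add]; exact Subalgebra.add_mem _ hp hq
    | mul_X p i hp =>
      rw [map_mul]
      exact Subalgebra.mul_mem _ hp (hall i.1 i.2)
  exact ⟨⟨hGfin.toFinset, by rw [Set.Finite.coe_toFinset]; exact htop⟩⟩

end Alg

end Groth.Agent.Lib.Helper5.HomAff
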