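import Groth.Agent.Lib.Helper5.WeilP.Aff
import Groth.Agent.Lib.Helper5.HomAff.WeilFT

set_option autoImplicit false
universe u
open TensorProduct CategoryTheory CategoryTheory.Limits AlgebraicGeometry Opposite

namespace Groth.Agent.Lib.Helper5.HomAff

open Groth.Agent.Lib.Helper5.Weil (tensor_hom_ext mapHom mapHom_apply algCat algCat_apply algCat_comp_mapHom algCat_injective)
open Groth.Agent.Lib.Helper5.WeilP

theorem weil_algP' {R C B : CommRingCat.{u}} (φg : R ⟶ C) (φf : R ⟶ B)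
    (hfree : letI := φg.hom.toAlgebra; Module.Finite R C ∧ Module.Projective R C) :
    ∃ (W : CommRingCat.{u}) (w₀ : R ⟶ W), (φf.hom.FiniteType → w₀.hom.FiniteType) ∧
      ∀ (Q : CommRingCat.{u}) (j₁ : W ⟶ Q) (j₂ : C ⟶ Q)
      (_ : IsPushout w₀ φg j₁ j₂),
      ∃ (uu : B ⟶ Q), φf ≫ uu = φg ≫ j₂ ∧
        ∀ (A : CommRingCat.{u}) (ρ : R ⟶ A) (Q' : CommRingCat.{u}) (i₁ : A ⟶ Q') (i₂ : C ⟶ Q')
          (_ : IsPushout ρ φg i₁ i₂) (β : B ⟶ Q') (_ : φf ≫ β = φg ≫ i₂),
          ∃! α : W ⟶ A, w₀ ≫ α = ρ ∧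
            ∀ m : Q ⟶ Q', j₁ ≫ m = α ≫ i₁ → j₂ ≫ m = i₂ → uu ≫ m = β := by
  letI := φg.hom.toAlgebra
  letI := φf.hom.toAlgebra
  obtain ⟨hfin, hfr⟩ := hfree
  obtain ⟨n, fL, gL, -, -, hfg⟩ := Module.Finite.exists_comp_eq_id_of_projective R C
  let c : Fin n → C := fun k => fL (Pi.single k 1)
  let ℓ : Fin n → C →ₗ[R] R := fun k => (LinearMap.proj k) ∘ₗ gL
  have hc : ∀ x : C, ∑ k, ℓ k x • c k = x := by
    intro x
    have h1 : fL (gL x) = x := congrArg (fun m => m x) hfg
    conv_rhs => rw [← h1]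
    have h2 : gL x = ∑ k, (gL x k) • (Pi.single k (1 : R) : Fin n → R) := by
      ext j
      simp [Finset.sum_apply, Pi.single_apply]
    conv_rhs => rw [h2, map_sum]
    refine Finset.sum_congr rfl fun k _ => ?_
    rw [map_smul]
    rfl
  have hφg : φg = CommRingCat.ofHom (algebraMap R C) := rfl
  have hφf : φf = CommRingCat.ofHom (algebraMap R B) := rfl
  refine ⟨CommRingCat.of (WB c ℓ B), CommRingCat.ofHom (algebraMap R (WB c ℓ B)), ?_, ?_⟩
  · intro hft
    have hB : Algebra.FiniteType R B := hft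
    have hW : Algebra.FiniteType R (WB c ℓ B) := WB_finiteType c ℓ hc B hB
    exact RingHom.finiteType_algebraMap.mpr hW
  intro Q j₁ j₂ hQ
  have hT := CommRingCat.isPushout_tensorProduct R (WB c ℓ B) C
  let eQ := hT.isoIsPushout _ _ hQ
  have eQ1 : CommRingCat.ofHom Algebra.TensorProduct.includeLeftRingHom ≫ eQ.hom = j₁ :=
    IsPushout.inl_isoIsPushout_hom _ _ hT hQ
  have eQ2 : CommRingCat.ofHom (Algebra.TensorProduct.includeRight (R := R) (A := WB c ℓ B) (B := C)).toRingHom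
      ≫ eQ.hom = j₂ := IsPushout.inr_isoIsPushout_hom _ _ hT hQ
  refine ⟨algCat (uHom c ℓ hc B) ≫ eQ.hom, ?_, ?_⟩
  · rw [← eQ2, hφf, hφg, ← Category.assoc, ← Category.assoc]
    congr 1
    apply CommRingCat.hom_ext
    apply RingHom.ext
    intro r
    change uHom c ℓ hc B (algebraMap R B r) = Algebra.TensorProduct.includeRight (algebraMap R C r)
    rw [AlgHom.commutes, AlgHom.commutes]
  intro A ρ Q' i₁ i₂ hQ' β hβ
  letI := ρ.hom.toAlgebra
  have hρ : ρ = CommRingCat.ofHom (algebraMap R A) := rfl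
  have hT' := CommRingCat.isPushout_tensorProduct R A C
  let e' := hT'.isoIsPushout _ _ hQ'
  have e'1 : CommRingCat.ofHom Algebra.TensorProduct.includeLeftRingHom ≫ e'.hom = i₁ :=
    IsPushout.inl_isoIsPushout_hom _ _ hT' hQ'
  have e'2 : CommRingCat.ofHom (Algebra.TensorProduct.includeRight (R := R) (A := A) (B := C)).toRingHom
      ≫ e'.hom = i₂ := IsPushout.inr_isoIsPushout_hom _ _ hT' hQ'
  have e'3 : i₂ ≫ e'.inv = CommRingCat.ofHom
      (Algebra.TensorProduct.includeRight (R := R) (A := A) (B := C)).toRingHom := by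
    rw [← e'2, Category.assoc, Iso.hom_inv_id, Category.comp_id]
  have e'4 : i₁ ≫ e'.inv = CommRingCat.ofHom Algebra.TensorProduct.includeLeftRingHom := by
    rw [← e'1, Category.assoc, Iso.hom_inv_id, Category.comp_id]
  let ψ : B →ₐ[R] A ⊗[R] C :=
    { toRingHom := (β ≫ e'.inv).hom
      commutes' := by
        intro r
        have h1 : (φf ≫ β ≫ e'.inv) = φg ≫ CommRingCat.ofHom
            (Algebra.TensorProduct.includeRight (R := R) (A := A) (B := C)).toRingHom := by
          rw [← Category.assoc, hβ, Category.assoc, e'3]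
        have h2 := congrArg (fun f => f.hom r) h1
        simp only [hφf, hφg] at h2
        change (β ≫ e'.inv).hom (algebraMap R B r) = _
        refine h2.trans ?_
        simp }
  have hψ : algCat ψ = β ≫ e'.inv := rfl
  -- property of a candidate
  have main : ∀ (φ : WB c ℓ B →ₐ[R] A) (m : Q ⟶ Q'),
      j₁ ≫ m = CommRingCat.ofHom φ.toRingHom ≫ i₁ → j₂ ≫ m = i₂ →
      eQ.hom ≫ m ≫ e'.inv = mapHom (C := C) φ := by
    intro φ m hm1 hm2
    apply tensor_hom_ext
    · rw [← Category.assoc, eQ1, ← Category.assoc, hm1, Category.assoc, e'4]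
      apply CommRingCat.hom_ext
      apply RingHom.ext
      intro x
      change (φ x) ⊗ₜ[R] (1 : C) = Algebra.TensorProduct.map φ (AlgHom.id R C) (x ⊗ₜ[R] (1 : C))
      rw [Algebra.TensorProduct.map_tmul]
      rfl
    · rw [← Category.assoc, eQ2, ← Category.assoc, hm2, e'3]
      apply CommRingCat.hom_ext
      apply RingHom.ext
      intro x
      change (1 : A) ⊗ₜ[R] x = Algebra.TensorProduct.map φ (AlgHom.id R C) ((1 : WB c ℓ B) ⊗ₜ[R] x)
      rw [Algebra.TensorProduct.map_tmul, map_one]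
      rfl
  have toAlg : ∀ α : CommRingCat.of (WB c ℓ B) ⟶ A,
      CommRingCat.ofHom (algebraMap R (WB c ℓ B)) ≫ α = ρ →
      ∃ φ : WB c ℓ B →ₐ[R] A, α = CommRingCat.ofHom φ.toRingHom := by
    intro α hα
    refine ⟨{ toRingHom := α.hom, commutes' := ?_ }, rfl⟩
    intro r
    exact congrArg (fun f => f.hom r) hα
  refine ⟨CommRingCat.ofHom (phiW c ℓ hc ψ).toRingHom, ⟨?_, ?_⟩, ?_⟩
  · rw [hρ]
    apply CommRingCat.hom_ext
    apply RingHom.ext
    intro r
    change phiW c ℓ hc ψ (algebraMap R (WB c ℓ B) r) = algebraMap R A r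
    rw [AlgHom.commutes]
  · intro m hm1 hm2
    have h := main (phiW c ℓ hc ψ) m hm1 hm2
    have h3 : algCat (uHom c ℓ hc B) ≫ mapHom (C := C) (phiW c ℓ hc ψ) = β ≫ e'.inv := by
      rw [← hψ, algCat_comp_mapHom, phiW_spec c ℓ hc ψ]
    have h4 : ((algCat (uHom c ℓ hc B) ≫ eQ.hom) ≫ m) ≫ e'.inv = β ≫ e'.inv := by
      rw [← h3, ← h]
      simp only [Category.assoc]
    have h5 := congrArg (fun f => f ≫ e'.hom) h4
    simpa only [Category.assoc, Iso.inv_hom_id, Category.comp_id] using h5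
  · rintro α ⟨hα1, hα2⟩
    obtain ⟨φ, rfl⟩ := toAlg α hα1
    let m : Q ⟶ Q' := eQ.inv ≫ mapHom (C := C) φ ≫ e'.hom
    have hm1 : j₁ ≫ m = CommRingCat.ofHom φ.toRingHom ≫ i₁ := by
      rw [← eQ1, ← e'1]
      simp only [m, Category.assoc, Iso.hom_inv_id_assoc]
      rw [← Category.assoc, ← Category.assoc]
      congr 1
    have hm2 : j₂ ≫ m = i₂ := by
      rw [← eQ2, ← e'2]
      simp only [m, Category.assoc, Iso.hom_inv_id_assoc]
      rw [← Category.assoc]
      congr 1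
      apply CommRingCat.hom_ext
      apply RingHom.ext
      intro x
      change Algebra.TensorProduct.map φ (AlgHom.id R C) ((1 : WB c ℓ B) ⊗ₜ[R] x) = (1 : A) ⊗ₜ[R] x
      rw [Algebra.TensorProduct.map_tmul, map_one]
      rfl
    have h := hα2 m hm1 hm2
    have h6 : algCat (uHom c ℓ hc B) ≫ mapHom (C := C) φ = β ≫ e'.inv := by
      rw [← h]
      simp only [m, Category.assoc, Iso.hom_inv_id_assoc, Iso.hom_inv_id, Category.comp_id]
    have h7 : (Algebra.TensorProduct.map φ (AlgHom.id R C)).comp (uHom c ℓ hc B) = ψ := by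
      apply algCat_injective
      rw [← algCat_comp_mapHom, h6, hψ]
    have h8 := phiW_unique c ℓ hc φ (phiW c ℓ hc ψ) (h7.trans (phiW_spec c ℓ hc ψ).symm)
    rw [h8]


open Groth.Agent.Lib.Helper5.Weil in
/-- Weil restriction for affine schemes, finite projective case, with finite type. -/
theorem representableP' {Z X S : Scheme.{u}} [IsAffine Z] [IsAffine X] [IsAffine S] (g : Z ⟶ S)
    (f : X ⟶ S)
    (hproj : letI := (g.appTop).hom.toAlgebra
      Module.Finite Γ(S, ⊤) Γ(Z, ⊤) ∧ Module.Projective Γ(S, ⊤) Γ(Z, ⊤)) :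
    ∃ W : Over S, IsAffine W.left ∧ (LocallyOfFiniteType f → LocallyOfFiniteType W.hom) ∧
      Nonempty ((Flatn.morS g f).RepresentableBy W) := by
  obtain ⟨W₀, w₀, hft, h⟩ := weil_algP' g.appTop f.appTop hproj
  obtain ⟨uu, huu, hUP⟩ := h _ _ _ (isPushout_W g w₀)
  refine ⟨Wobj w₀, (inferInstance : IsAffine (Spec W₀)), ?_, ⟨?_⟩⟩
  · intro hf
    have h1 : f.appTop.hom.FiniteType :=
      (HasRingHomProperty.iff_of_isAffine (P := @LocallyOfFiniteType)).mp hf
    have h2 : LocallyOfFiniteType (Spec.map w₀) :=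
      (HasRingHomProperty.Spec_iff (P := @LocallyOfFiniteType)).mpr (hft h1)
    change LocallyOfFiniteType (Spec.map w₀ ≫ S.isoSpec.inv)
    infer_instance
  exact
    { homEquiv := fun {T} => Equiv.ofBijective (tau g f w₀ uu huu T)
        ⟨tau_inj g f w₀ uu huu hUP T, tau_surj g f w₀ uu huu hUP T⟩
      homEquiv_comp := fun s t => tau_comp g f w₀ uu huu s t }

end Groth.Agent.Lib.Helper5.HomAff
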